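import Cfsg.Agent.Lib.Coprime.Action
import Cfsg.Agent.Lib.Coprime.Generation
import Mathlib

/-!
# Bounding the derived group under a coprime action of rank three

If `A` is elementary abelian of order `q³` acting coprimely on `K` and every `C_K(a)'` has order
at most `m`, then `|K'|` is bounded in terms of `q` and `m`.  The fixed points of noncyclic
subgroups of `A` generate, their pairwise commutators lie in the `C_K(a)'`, and each of them has
a conjugacy class of bounded size.
-/

set_option autoImplicit false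
open scoped Classical commutatorElement
open Subgroup

namespace Cfsg.CoprimeDerived

/-! ### generated by few commutators of elements with small classes -/

/-- the index bound used for the centre -/
def idxBound (N L : ℕ) : ℕ := (N * (L * L)).factorial

/-- the bound for the derived group -/
def derivedBound (N L e : ℕ) : ℕ :=
  e ^ (N * (L * L)) *
    ∑ n ∈ Finset.range (idxBound N L * idxBound N L + 1), cardCommutatorBound n

lemma card_closure_le_pow {A : Type*} [CommGroup A] [Finite A] {e : ℕ} (he : 0 < e) (s : Finset A)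
    (hs : ∀ x ∈ s, x ^ e = 1) : Nat.card (closure (s : Set A)) ≤ e ^ s.card := by
  induction s using Finset.induction with
  | empty => simp
  | @insert y s hy ih =>
    have h := Cfsg.Agent.Lib.Coprime.card_sup_mul_card_inf (N := closure (s : Set A))
      (H := zpowers y) (by rw [Subgroup.normalizer_eq_top]; exact le_top)
    have heq : closure ((insert y s : Finset A) : Set A) = closure (s : Set A) ⊔ zpowers y := by
      rw [Finset.coe_insert, Set.insert_eq, Subgroup.closure_union, ← zpowers_eq_closure, sup_comm]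
    have h1 : Nat.card (zpowers y) ≤ e := by
      rw [Nat.card_zpowers]
      exact Nat.le_of_dvd he (orderOf_dvd_of_pow_eq_one (hs y (Finset.mem_insert_self _ _)))
    rw [heq, Finset.card_insert_of_notMem hy, pow_succ]
    calc Nat.card (closure (s : Set A) ⊔ zpowers y : Subgroup A)
        ≤ Nat.card (closure (s : Set A) ⊔ zpowers y : Subgroup A) *
          Nat.card (closure (s : Set A) ⊓ zpowers y : Subgroup A) :=
          Nat.le_mul_of_pos_right _ Nat.card_pos
      _ = _ := h
      _ ≤ _ := Nat.mul_le_mul (ih fun x hx => hs x (Finset.mem_insert_of_mem hx)) h1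

variable {G : Type*} [Group G] [Finite G]

lemma ncard_conjugatesOf_le (x : G) :
    (conjugatesOf x).ncard ≤ (centralizer ({x} : Set G)).index := by
  let f : G ⧸ centralizer ({x} : Set G) → G := fun g =>
    Quotient.liftOn' g (fun g => g * x * g⁻¹) fun a b hab => by
      rw [QuotientGroup.leftRel_apply, mem_centralizer_singleton_iff] at hab
      calc a * x * a⁻¹ = a * (x * (a⁻¹ * b)) * b⁻¹ := by group
        _ = a * (a⁻¹ * b * x) * b⁻¹ := by rw [hab]
        _ = b * x * b⁻¹ := by group
  have hsub : conjugatesOf x ⊆ Set.range f := by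
    intro y hy
    obtain ⟨g, rfl⟩ := isConj_iff.mp hy
    exact ⟨QuotientGroup.mk g, rfl⟩
  rw [Subgroup.index, ← Set.ncard_univ]
  refine (Set.ncard_le_ncard hsub (Set.toFinite _)).trans ?_
  rw [← Set.image_univ]
  exact Set.ncard_image_le Set.finite_univ

/-- A group generated by elements with small classes and few mutual commutators, of small
order, has small derived group. -/
theorem card_commutator_le (S : Set G) (hS : closure S = ⊤) {N L e : ℕ} (he : 0 < e)
    (hN : {z : G | ∃ s ∈ S, ∃ t ∈ S, ⁅s, t⁆ = z}.ncard ≤ N)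
    (hL : ∀ s ∈ S, (centralizer ({s} : Set G)).index ≤ L)
    (hex : ∀ s ∈ S, ∀ t ∈ S, ⁅s, t⁆ ^ e = 1) :
    Nat.card (commutator G) ≤ derivedBound N L e := by
  set X := {z : G | ∃ s ∈ S, ∃ t ∈ S, ⁅s, t⁆ = z} with hX
  set Y := Group.conjugatesOfSet X with hY
  set D := Subgroup.normalClosure X with hD
  -- `D` is the derived group
  have hDeq : commutator G = D := by
    refine le_antisymm ?_ (normalClosure_le_normal ?_)
    · rw [commutator_def]
      refine (Subgroup.commutator_le).mpr fun a _ b _ => ?_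
      have key : ∀ a b : G, (a : G ⧸ D) * b = (b : G ⧸ D) * a := by
        have hS' : closure ((QuotientGroup.mk' D) '' S) = ⊤ := by
          rw [← MonoidHom.map_closure, hS]
          exact map_top_of_surjective _ (QuotientGroup.mk'_surjective D)
        have hc : ((QuotientGroup.mk' D) '' S) ⊆
            centralizer ((QuotientGroup.mk' D) '' S) := by
          rintro _ ⟨s, hs, rfl⟩ _ ⟨t, ht, rfl⟩
          have hmem : ⁅t, s⁆ ∈ D := subset_normalClosure ⟨t, ht, s, hs, rfl⟩
          have h1 : QuotientGroup.mk' D ⁅t, s⁆ = 1 := (QuotientGroup.eq_one_iff _).mpr hmem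
          rw [map_commutatorElement] at h1
          exact commutatorElement_eq_one_iff_mul_comm.mp h1
        have h2 : closure ((QuotientGroup.mk' D) '' S) ≤
            centralizer (closure ((QuotientGroup.mk' D) '' S) : Set (G ⧸ D)) := by
          rw [centralizer_closure]; exact (closure_le _).mpr hc
        intro a b
        rw [hS'] at h2
        exact ((mem_centralizer_iff.mp (h2 (mem_top (a : G ⧸ D)))) (b : G ⧸ D) (mem_top _)).symm
      refine (QuotientGroup.eq_one_iff _).mp ?_
      show QuotientGroup.mk' D ⁅a, b⁆ = 1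
      rw [map_commutatorElement, commutatorElement_eq_one_iff_mul_comm]
      exact key a b
    · rintro z ⟨s, -, t, -, rfl⟩
      exact commutator_mem_commutator (mem_top s) (mem_top t)
  -- the size of `Y`
  have hYcard : Y.ncard ≤ N * (L * L) := by
    have hsub : Y = ⋃ x ∈ X.toFinite.toFinset, conjugatesOf x := by
      ext z; simp [hY, Group.mem_conjugatesOfSet_iff, conjugatesOf]
    rw [hsub]
    refine (Finset.set_ncard_biUnion_le _ _).trans ?_
    calc ∑ x ∈ X.toFinite.toFinset, (conjugatesOf x).ncard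
        ≤ ∑ _x ∈ X.toFinite.toFinset, L * L := by
          refine Finset.sum_le_sum fun x hx => (ncard_conjugatesOf_le x).trans ?_
          obtain ⟨s, hs, t, ht, rfl⟩ := (Set.Finite.mem_toFinset _).mp hx
          have hle : centralizer ({s} : Set G) ⊓ centralizer {t} ≤ centralizer {⁅s, t⁆} := by
            rintro g ⟨hg1, hg2⟩
            have h1 : Commute g s := mem_centralizer_singleton_iff.mp hg1
            have h2 : Commute g t := mem_centralizer_singleton_iff.mp hg2
            refine mem_centralizer_singleton_iff.mpr ?_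
            rw [commutatorElement_def]
            exact ((h1.mul_right h2).mul_right h1.inv_right).mul_right h2.inv_right
          refine (Nat.le_of_dvd (Nat.pos_of_ne_zero FiniteIndex.index_ne_zero)
            (index_dvd_of_le hle)).trans ?_
          exact (Subgroup.index_inf_le (H := centralizer ({s} : Set G))
            (K := centralizer {t})).trans (Nat.mul_le_mul (hL s hs) (hL t ht))
      _ ≤ _ := by
          rw [Finset.sum_const, smul_eq_mul, ← Set.ncard_eq_toFinset_card _ X.toFinite]
          exact Nat.mul_le_mul_right _ hN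
  have hYD : ∀ y ∈ Y, y ∈ D := fun y hy => conjugatesOfSet_subset_normalClosure hy
  have hYgen : closure ((↑) ⁻¹' Y : Set D) = ⊤ := by
    have : D = closure Y := rfl
    apply map_injective D.subtype_injective
    rw [MonoidHom.map_closure, ← MonoidHom.range_eq_map, Subgroup.range_subtype,
      Subgroup.coe_subtype]
    rw [show ((fun x : D => (x : G)) '' ((↑) ⁻¹' Y : Set D)) = Y from
      (Set.image_preimage_eq_inter_range).trans (by
        rw [Subtype.range_coe_subtype]
        exact Set.inter_eq_left.mpr fun y hy => hYD y hy)]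
    exact this.symm
  -- the centre of `D`
  have hconj : ∀ (g : D) (y : Y), (g : G) * y * (g : G)⁻¹ ∈ Y := fun g y =>
    Group.conj_mem_conjugatesOfSet y.2
  let φ : D →* Equiv.Perm Y :=
    { toFun := fun g =>
        { toFun := fun y => ⟨_, hconj g y⟩
          invFun := fun y => ⟨_, hconj g⁻¹ y⟩
          left_inv := fun y => Subtype.ext (by simp [mul_assoc])
          right_inv := fun y => Subtype.ext (by simp [mul_assoc]) }
      map_one' := Equiv.ext fun y => Subtype.ext (by simp)
      map_mul' := fun a b => Equiv.ext fun y => Subtype.ext (by simp [mul_assoc]) }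
  have hker : φ.ker ≤ center D := by
    intro g hg
    have hc : closure ((↑) ⁻¹' Y : Set D) ≤ centralizer {g} := by
      rw [closure_le]
      intro y hy
      have h := congrArg Subtype.val (Equiv.congr_fun (MonoidHom.mem_ker.mp hg) ⟨(y : G), hy⟩)
      change (g : G) * (y : G) * (g : G)⁻¹ = y at h
      exact mem_centralizer_singleton_iff.mpr (Subtype.ext (mul_inv_eq_iff_eq_mul.mp h).symm)
    rw [hYgen] at hc
    exact Subgroup.mem_center_iff.mpr fun h => mem_centralizer_singleton_iff.mp (hc (mem_top h))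
  set I := idxBound N L
  have hI : (center D).index ≤ I := by
    refine (Nat.le_of_dvd (Nat.pos_of_ne_zero FiniteIndex.index_ne_zero)
      (index_dvd_of_le hker)).trans ?_
    rw [Subgroup.index_ker]
    refine (Subgroup.card_le_card_group _).trans ?_
    rw [Nat.card_perm, Nat.card_coe_set_eq]
    exact Nat.factorial_le hYcard
  have hcomm : Nat.card (commutatorSet D) ≤ I * I := by
    let f : (D ⧸ center D) × (D ⧸ center D) → D := fun p => ⁅p.1.out, p.2.out⁆
    have hsub : commutatorSet D ⊆ Set.range f := by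
      rintro _ ⟨a, b, rfl⟩
      refine ⟨((a : D ⧸ center D), (b : D ⧸ center D)), ?_⟩
      obtain ⟨u, hu⟩ := QuotientGroup.mk_out_eq_mul (center D) a
      obtain ⟨u', hu'⟩ := QuotientGroup.mk_out_eq_mul (center D) b
      simp only [f, hu, hu']
      have e1 : ∀ x : D, (u : D) * x = x * u := fun x =>
        (Subgroup.mem_center_iff.mp u.2 x).symm
      have e2 : ∀ x : D, (u' : D) * x = x * u' := fun x =>
        (Subgroup.mem_center_iff.mp u'.2 x).symm
      rw [commutatorElement_def, commutatorElement_def, mul_inv_rev, mul_inv_rev]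
      calc a * (u : D) * (b * u') * ((u : D)⁻¹ * a⁻¹) * ((u' : D)⁻¹ * b⁻¹)
          = a * ((u : D) * (b * u')) * (u : D)⁻¹ * a⁻¹ * (u' : D)⁻¹ * b⁻¹ := by group
        _ = a * b * ((u' : D) * a⁻¹) * (u' : D)⁻¹ * b⁻¹ := by rw [e1]; group
        _ = _ := by rw [e2]; group
    rw [Nat.card_coe_set_eq]
    refine (Set.ncard_le_ncard hsub (Set.toFinite _)).trans ?_
    rw [← Set.image_univ]
    refine (Set.ncard_image_le Set.finite_univ).trans ?_
    rw [Set.ncard_univ, Nat.card_prod]
    exact Nat.mul_le_mul hI hI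
  have hD2 : Nat.card (commutator D) ≤
      ∑ n ∈ Finset.range (I * I + 1), cardCommutatorBound n :=
    (card_commutator_le_of_finite_commutatorSet D).trans
      (Finset.single_le_sum (f := cardCommutatorBound) (fun _ _ => Nat.zero_le _)
        (Finset.mem_range.mpr (Nat.lt_succ_of_le hcomm)))
  have hab : Nat.card (Abelianization D) ≤ e ^ (N * (L * L)) := by
    have : Fintype D := Fintype.ofFinite D
    let s : Finset (Abelianization D) :=
      (Finset.univ.filter fun y : D => (y : G) ∈ Y).image Abelianization.of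
    have hs : closure (s : Set (Abelianization D)) = ⊤ := by
      simp only [s, Finset.coe_image, Finset.coe_filter, Finset.mem_univ, true_and]
      rw [← MonoidHom.map_closure]
      erw [hYgen]
      exact map_top_of_surjective _ fun x => Quotient.inductionOn' x fun y => ⟨y, rfl⟩
    have hse : ∀ x ∈ s, x ^ e = 1 := by
      intro x hx
      obtain ⟨y, hy, rfl⟩ := Finset.mem_image.mp hx
      obtain ⟨z, ⟨s', hs', t', ht', rfl⟩, hzy⟩ :=
        Group.mem_conjugatesOfSet_iff.mp (Finset.mem_filter.mp hy).2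
      obtain ⟨g, hg⟩ := isConj_iff.mp hzy
      have hy1 : (y : G) ^ e = 1 := by rw [← hg, conj_pow, hex s' hs' t' ht']; group
      rw [← map_pow, show y ^ e = 1 from Subtype.ext (by simpa using hy1), map_one]
    have hcard : s.card ≤ N * (L * L) := by
      refine Finset.card_image_le.trans (le_trans ?_ hYcard)
      rw [← Set.ncard_coe_finset]
      exact Set.ncard_le_ncard_of_injOn (fun y : D => (y : G))
        (fun y hy => (Finset.mem_filter.mp hy).2) Subtype.val_injective.injOn (Set.toFinite _)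
    have h := card_closure_le_pow he s hse
    rw [hs, Subgroup.card_top] at h
    exact h.trans (Nat.pow_le_pow_right he hcard)
  rw [hDeq, Subgroup.card_eq_card_quotient_mul_card_subgroup (commutator D)]
  exact Nat.mul_le_mul hab hD2

/-! ### indices from fixed points -/

/-- An invariant subgroup of an `r`-group has index at most the product of the indices among
fixed points. -/
lemma card_le_mul_prod {B : Subgroup G} [IsMulCommutative B] (hB : ¬ IsCyclic B)
    {r : ℕ} [Fact r.Prime] (T : Finset G) (hT : ∀ c, c ∈ T ↔ c ∈ B ∧ c ≠ 1) :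
    ∀ P Q : Subgroup G, Q ≤ P → IsPGroup r P → B ≤ normalizer (P : Set G) →
      B ≤ normalizer (Q : Set G) → (Nat.card B).Coprime (Nat.card P) →
      Nat.card P ≤ Nat.card Q * ∏ c ∈ T, Q.relIndex (P ⊓ centralizer {c}) := by
  intro P
  suffices ∀ d (Q : Subgroup G), Nat.card P - Nat.card Q = d → Q ≤ P → IsPGroup r P →
      B ≤ normalizer (P : Set G) → B ≤ normalizer (Q : Set G) →
      (Nat.card B).Coprime (Nat.card P) →
      Nat.card P ≤ Nat.card Q * ∏ c ∈ T, Q.relIndex (P ⊓ centralizer {c}) from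
    fun Q => this _ Q rfl
  intro d
  induction d using Nat.strong_induction_on with
  | _ d ih =>
    intro Q hd hQP hP hBP hBQ hcop
    rcases hQP.eq_or_lt with rfl | hlt
    · exact Nat.le_mul_of_pos_right _ (Finset.prod_pos fun c _ =>
        Nat.pos_of_ne_zero FiniteIndex.index_ne_zero)
    -- an invariant abelian step above `Q`
    set N := normalizer (Q : Set G) ⊓ P with hN
    have hBN : B ≤ normalizer (N : Set G) :=
      le_trans (le_inf (hBQ.trans Subgroup.le_normalizer) hBP)
        Subgroup.inf_normalizer_le_normalizer_inf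
    have hQN : Q ≤ N := le_inf Subgroup.le_normalizer hQP
    have hQltN : Q < N := by
      refine hQN.lt_of_ne fun heq => ?_
      have : Group.IsNilpotent P := hP.isNilpotent
      have h := normalizerCondition_iff_only_full_group_self_normalizing.mp
        (Group.normalizerCondition_of_isNilpotent (G := P)) (Q.subgroupOf P)
      have h1 : Q.subgroupOf P = ⊤ := by
        apply h
        ext ⟨x, hx⟩
        rw [mem_subgroupOf]
        constructor
        · intro hxn
          rw [heq]
          refine ⟨?_, hx⟩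
          refine Subgroup.mem_normalizer_iff.mpr fun z => ?_
          constructor
          · intro hz
            exact (Subgroup.mem_normalizer_iff.mp hxn ⟨z, hQP hz⟩).mp hz
          · intro hz
            have hzP : z ∈ P := by
              have := mul_mem (mul_mem (inv_mem hx) (hQP hz)) hx
              simpa [mul_assoc] using this
            exact (Subgroup.mem_normalizer_iff.mp hxn ⟨z, hzP⟩).mpr hz
        · exact fun hxn => Subgroup.le_normalizer (H := Q.subgroupOf P) hxn
      exact hlt.not_ge (subgroupOf_eq_top.mp h1)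
    have hQn : (Q.subgroupOf N).Normal := normal_subgroupOf_of_le_normalizer inf_le_left
    -- `Q₁ / Q` is the centre of `N / Q`
    set Q₁ := ((center (N ⧸ Q.subgroupOf N)).comap
      (QuotientGroup.mk' (Q.subgroupOf N))).map N.subtype with hQ₁
    have hmem : ∀ x, x ∈ Q₁ ↔ x ∈ N ∧ ∀ y ∈ N, ⁅x, y⁆ ∈ Q := by
      intro x
      have key : ∀ u v : N, ((u : N ⧸ Q.subgroupOf N) * v = v * u ↔ ⁅(u : G), (v : G)⁆ ∈ Q) := by
        intro u v
        rw [← commutatorElement_eq_one_iff_mul_comm]
        show ⁅QuotientGroup.mk' (Q.subgroupOf N) u, QuotientGroup.mk' (Q.subgroupOf N) v⁆ = 1 ↔ _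
        rw [← map_commutatorElement, QuotientGroup.mk'_apply, QuotientGroup.eq_one_iff,
          mem_subgroupOf]
        rfl
      constructor
      · rintro ⟨⟨u, hu⟩, hc, rfl⟩
        refine ⟨hu, fun y hy => (key ⟨u, hu⟩ ⟨y, hy⟩).mp ?_⟩
        exact (Subgroup.mem_center_iff.mp hc _).symm
      · rintro ⟨hx, hc⟩
        refine ⟨⟨x, hx⟩, Subgroup.mem_center_iff.mpr fun q => ?_, rfl⟩
        obtain ⟨y, rfl⟩ := QuotientGroup.mk_surjective q
        exact ((key ⟨x, hx⟩ y).mpr (hc y y.2)).symm
    have hQ₁N : Q₁ ≤ N := fun x hx => ((hmem x).mp hx).1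
    have hQQ₁ : Q ≤ Q₁ := by
      intro x hx
      refine (hmem x).mpr ⟨hQN hx, fun y hy => ?_⟩
      rw [commutatorElement_def, mul_assoc, mul_assoc, ← mul_assoc y]
      exact mul_mem hx ((Subgroup.mem_normalizer_iff.mp hy.1 x⁻¹).mp (inv_mem hx))
    have hBQ₁ : B ≤ normalizer (Q₁ : Set G) := by
      have key : ∀ b ∈ B, ∀ x ∈ Q₁, b * x * b⁻¹ ∈ Q₁ := by
        intro b hb x hx
        obtain ⟨hxN, hc⟩ := (hmem x).mp hx
        refine (hmem _).mpr ⟨(Subgroup.mem_normalizer_iff.mp (hBN hb) x).mp hxN, fun y hy => ?_⟩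
        have hy' : b⁻¹ * y * b ∈ N := by
          simpa using (Subgroup.mem_normalizer_iff.mp (inv_mem (hBN hb)) y).mp hy
        have h := (Subgroup.mem_normalizer_iff.mp (hBQ hb) _).mp (hc _ hy')
        rw [show b * ⁅x, b⁻¹ * y * b⁆ * b⁻¹ = ⁅b * x * b⁻¹, y⁆ by
          rw [commutatorElement_def, commutatorElement_def]; group] at h
        exact h
      intro b hb
      refine Subgroup.mem_normalizer_iff.mpr fun x => ⟨key b hb x, fun h => ?_⟩
      have := key b⁻¹ (inv_mem hb) _ h
      simpa [mul_assoc] using this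
    have hlt₁ : Q < Q₁ := by
      refine hQQ₁.lt_of_ne fun heq => ?_
      have hq : IsPGroup r (N ⧸ Q.subgroupOf N) :=
        (hP.to_le inf_le_right).to_quotient _
      have : Nontrivial (N ⧸ Q.subgroupOf N) :=
        QuotientGroup.nontrivial_iff.mpr fun h => hQltN.not_ge (subgroupOf_eq_top.mp h)
      have := hq.center_nontrivial
      obtain ⟨⟨z, hz⟩, hz1⟩ := exists_ne (1 : center (N ⧸ Q.subgroupOf N))
      obtain ⟨y, rfl⟩ := QuotientGroup.mk_surjective z
      apply hz1
      refine Subtype.ext ((QuotientGroup.eq_one_iff y).mpr ?_)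
      rw [mem_subgroupOf, heq]
      exact ⟨y, hz, rfl⟩
    have hQ₁P : Q₁ ≤ P := hQ₁N.trans inf_le_right
    -- the abelian step
    have hstep : Nat.card Q₁ ≤ Nat.card Q * ∏ c ∈ T, Q.relIndex (Q₁ ⊓ centralizer {c}) := by
      let X : G → Subgroup G := fun c => Q₁ ⊓ centralizer {c}
      have hnorm : ∀ W : Subgroup G, Q ≤ W → W ≤ Q₁ → Q₁ ≤ normalizer (W : Set G) := by
        intro W hQW hWQ₁
        have key : ∀ x ∈ Q₁, ∀ w ∈ W, x * w * x⁻¹ ∈ W := fun x hx w hw => by
          rw [show x * w * x⁻¹ = ⁅x, w⁆ * w by rw [commutatorElement_def]; group]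
          exact mul_mem (hQW (((hmem x).mp hx).2 w (hQ₁N (hWQ₁ hw)))) hw
        intro x hx
        refine Subgroup.mem_normalizer_iff.mpr fun z => ⟨key x hx z, fun h => ?_⟩
        have := key x⁻¹ (inv_mem hx) _ h
        simpa [mul_assoc] using this
      have hall : ∀ s : Finset G, Q ⊔ s.sup X ≤ Q₁ ∧
          Nat.card (Q ⊔ s.sup X : Subgroup G) ≤ Nat.card Q * ∏ c ∈ s, Q.relIndex (X c) := by
        intro s
        induction s using Finset.induction with
        | empty => simp [hQQ₁]
        | @insert c s hc ih =>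
          have heq : Q ⊔ (insert c s).sup X = (Q ⊔ s.sup X) ⊔ X c := by
            rw [Finset.sup_insert, sup_comm (X c), ← sup_assoc]
          rw [heq]
          refine ⟨sup_le ih.1 inf_le_left, ?_⟩
          set W := Q ⊔ s.sup X
          have h := Cfsg.Agent.Lib.Coprime.card_sup_mul_card_inf (N := W) (H := X c)
            ((inf_le_left : X c ≤ Q₁).trans (hnorm W le_sup_left ih.1))
          have h2 : Nat.card (W ⊓ X c : Subgroup G) * W.relIndex (X c) = Nat.card (X c) := by
            have := relIndex_mul_relIndex ⊥ (W ⊓ X c) (X c) bot_le inf_le_right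
            rwa [relIndex_bot_left, relIndex_bot_left, inf_relIndex_right] at this
          rw [← h2, mul_left_comm, mul_comm] at h
          have h3 : Nat.card (W ⊔ X c : Subgroup G) = Nat.card W * W.relIndex (X c) :=
            Nat.eq_of_mul_eq_mul_left Nat.card_pos h
          rw [h3, Finset.prod_insert hc, mul_comm (Q.relIndex (X c)), ← mul_assoc]
          exact Nat.mul_le_mul ih.2 (Subgroup.relIndex_le_of_le_left le_sup_left
            FiniteIndex.index_ne_zero)
      have hgen : Q₁ ≤ Q ⊔ T.sup X := by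
        have h := Cfsg.Agent.Lib.Coprime.iSup_centralizer_eq hB hBQ₁
          (hcop.coprime_dvd_right (Subgroup.card_dvd_of_le hQ₁P))
        refine h.ge.trans (le_sup_of_le_right (iSup₂_le fun c hc => ?_))
        exact Finset.le_sup (f := X) ((hT c).mpr hc)
      exact (Subgroup.card_le_of_le hgen).trans (hall T).2
    have hrec := ih (Nat.card P - Nat.card Q₁) (by
      have h1 := Set.ncard_lt_ncard (SetLike.coe_ssubset_coe.mpr hlt₁)
      rw [← Nat.card_coe_set_eq, ← Nat.card_coe_set_eq] at h1
      have h2 := Subgroup.card_le_of_le hQ₁P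
      simp only [SetLike.coe_sort_coe] at h1
      omega) Q₁ rfl hQ₁P hP hBP hBQ₁ hcop
    refine hrec.trans ?_
    refine (Nat.mul_le_mul_right _ hstep).trans ?_
    rw [mul_assoc, ← Finset.prod_mul_distrib]
    refine Nat.mul_le_mul_left _ (le_of_eq (Finset.prod_congr rfl fun c _ => ?_))
    have := relIndex_inf_mul_relIndex Q Q₁ (P ⊓ centralizer {c})
    rw [inf_eq_left.mpr hQQ₁] at this
    rw [show Q₁ ⊓ centralizer {c} = Q₁ ⊓ (P ⊓ centralizer {c}) by
      rw [← inf_assoc, inf_eq_left.mpr hQ₁P]]
    exact this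

/-! ### rank three -/

/-- bound on classes of fixed points of noncyclic subgroups -/
def classBound (q m : ℕ) : ℕ := ((m + 1) ^ (q ^ 3)).factorial

/-- the final bound -/
def finalBound (q m : ℕ) : ℕ := derivedBound (q ^ 3 * m) (classBound q m) m.factorial

omit [Finite G] in
lemma mem_centralizer_pair {a x : G} :
    x ∈ centralizer ({a} : Set G) ↔ a ∈ centralizer ({x} : Set G) := by
  rw [mem_centralizer_singleton_iff, mem_centralizer_singleton_iff]
  exact ⟨Eq.symm, Eq.symm⟩

variable {A K : Subgroup G} {q m : ℕ}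

/-- elements of `K` fixed by a noncyclic subgroup of `A` -/
def genSet (A K : Subgroup G) (q : ℕ) : Set G :=
  {y | y ∈ K ∧ ∃ B : Subgroup G, B ≤ A ∧ q ^ 2 ≤ Nat.card B ∧ ∀ b ∈ B, b * y = y * b}

lemma not_isCyclic_of_card (hq : q.Prime) {B : Subgroup G} (hB : ∀ b ∈ B, b ^ q = 1)
    (h : q ^ 2 ≤ Nat.card B) : ¬ IsCyclic B := by
  intro hc
  obtain ⟨g, hg⟩ := hc.exists_ofOrder_eq_natCard
  have h1 : orderOf g ≤ q :=
    Nat.le_of_dvd hq.pos (orderOf_dvd_of_pow_eq_one (Subtype.ext (hB g g.2)))
  have := hq.two_le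
  nlinarith

lemma index_centralizer_le (hq : q.Prime) (hAc : ∀ a ∈ A, ∀ b ∈ A, a * b = b * a)
    (hAe : ∀ a ∈ A, a ^ q = 1) (hA : Nat.card A = q ^ 3)
    (hAK : A ≤ normalizer (K : Set G)) (hcop : (Nat.card A).Coprime (Nat.card K))
    (hm : ∀ a ∈ A, a ≠ 1 → Nat.card (⁅K ⊓ centralizer {a}, K ⊓ centralizer {a}⁆ : Subgroup G) ≤ m)
    {y : G} (hy : y ∈ genSet A K q) :
    (centralizer {y}).relIndex K ≤ classBound q m := by
  obtain ⟨hyK, B, hBA, hBcard, hBy⟩ := hy
  have : IsMulCommutative B := ⟨⟨fun a b => Subtype.ext (hAc a (hBA a.2) b (hBA b.2))⟩⟩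
  have hB : ¬ IsCyclic B := not_isCyclic_of_card hq (fun b hb => hAe b (hBA hb)) hBcard
  set H := K ⊓ centralizer {y} with hH
  have hBH : B ≤ normalizer (H : Set G) := by
    intro b hb
    have h1 : b ∈ normalizer ((centralizer ({y} : Set G) : Subgroup G) : Set G) :=
      Subgroup.le_normalizer (mem_centralizer_singleton_iff.mpr (hBy b hb))
    exact Subgroup.inf_normalizer_le_normalizer_inf ⟨hAK (hBA hb), h1⟩
  have hcopB : (Nat.card B).Coprime (Nat.card K) :=
    hcop.coprime_dvd_left (Subgroup.card_dvd_of_le hBA)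
  have hsolv : Group.IsSolvable B :=
    Group.isSolvable_of_comm fun a b => Subtype.ext (hAc a (hBA a.2) b (hBA b.2))
  let T : Finset G := (Set.toFinite {c : G | c ∈ B ∧ c ≠ 1}).toFinset
  have hT : ∀ c, c ∈ T ↔ c ∈ B ∧ c ≠ 1 := fun c => by simp [T]
  have hTcard : T.card ≤ q ^ 3 := by
    rw [← hA, ← Set.ncard_eq_toFinset_card _ (Set.toFinite _), ← SetLike.coe_sort_coe,
      Nat.card_coe_set_eq]
    exact Set.ncard_le_ncard (fun c hc => hBA hc.1) (Set.toFinite _)
  -- the relative index among the fixed points of one element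
  have hone : ∀ c ∈ T, H.relIndex (K ⊓ centralizer {c}) ≤ m + 1 := by
    intro c hc
    obtain ⟨hcB, hc1⟩ := (hT c).mp hc
    set E := K ⊓ centralizer ({c} : Set G) with hE
    have hyE : y ∈ E := ⟨hyK, mem_centralizer_singleton_iff.mpr (hBy c hcB).symm⟩
    let f : E ⧸ H.subgroupOf E → (⁅E, E⁆ : Subgroup G) := fun g =>
      Quotient.liftOn' g (fun g => (⟨⁅(g : G), y⁆, commutator_mem_commutator g.2 hyE⟩ :
        (⁅E, E⁆ : Subgroup G))) fun a b hab => by
        rw [QuotientGroup.leftRel_apply, mem_subgroupOf] at hab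
        have h2 := mem_centralizer_singleton_iff.mp hab.2
        simp only [Subgroup.coe_mul, Subgroup.coe_inv] at h2
        refine Subtype.ext ?_
        show ⁅(a : G), y⁆ = ⁅(b : G), y⁆
        rw [commutatorElement_def, commutatorElement_def]
        calc (a : G) * y * (a : G)⁻¹ * y⁻¹
            = (a : G) * (y * ((a : G)⁻¹ * b)) * (b : G)⁻¹ * y⁻¹ := by group
          _ = (a : G) * ((a : G)⁻¹ * b * y) * (b : G)⁻¹ * y⁻¹ := by rw [h2]
          _ = _ := by group
    have hinj : Function.Injective f := by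
      rintro ⟨a⟩ ⟨b⟩ hab
      have h1 : (a : G) * y * (a : G)⁻¹ * y⁻¹ = (b : G) * y * (b : G)⁻¹ * y⁻¹ := by
        have := congrArg Subtype.val hab
        rwa [← commutatorElement_def, ← commutatorElement_def]
      have h2 := mul_right_cancel h1
      refine Quotient.sound' ?_
      rw [QuotientGroup.leftRel_apply, mem_subgroupOf]
      refine ⟨mul_mem (K.inv_mem a.2.1) b.2.1, mem_centralizer_singleton_iff.mpr ?_⟩
      simp only [Subgroup.coe_mul, Subgroup.coe_inv]
      calc (a : G)⁻¹ * b * y = (a : G)⁻¹ * ((b : G) * y * (b : G)⁻¹) * b := by group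
        _ = (a : G)⁻¹ * ((a : G) * y * (a : G)⁻¹) * b := by rw [h2]
        _ = y * ((a : G)⁻¹ * b) := by group
    have h := Nat.card_le_card_of_injective f hinj
    exact (le_trans h (hm c (hBA hcB) hc1)).trans (Nat.le_succ _)
  -- prime by prime
  set M := (m + 1) ^ (q ^ 3) with hM
  have hHK : H ≤ K := inf_le_left
  have hdvd : H.relIndex K ∣ M.factorial := by
    have hidx0 : H.relIndex K ≠ 0 := FiniteIndex.index_ne_zero
    rw [← Nat.factorization_le_iff_dvd hidx0 (Nat.factorial_pos M).ne']
    intro r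
    by_cases hr : r.Prime
    swap
    · simp [Nat.factorization_eq_zero_of_not_prime _ hr]
    have := Fact.mk hr
    obtain ⟨R₀, hR₀⟩ := Cfsg.Agent.Lib.Coprime.exists_invariant_sylow hBH
      (hcopB.coprime_dvd_right (Subgroup.card_dvd_of_le hHK)) (Or.inl hsolv) r
    set Q := (R₀ : Subgroup H).map H.subtype with hQ
    have hQH : Q ≤ H := Subgroup.map_subtype_le _
    have hQp : IsPGroup r Q := R₀.isPGroup'.map _
    obtain ⟨R, hQR, hRB⟩ := Cfsg.Agent.Lib.Coprime.exists_invariant_sylow_ge
      (hBA.trans hAK) hcopB (Or.inl hsolv) r Q (hQH.trans hHK) hQp hR₀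
    set P := (R : Subgroup K).map K.subtype with hP
    have hPK : P ≤ K := Subgroup.map_subtype_le _
    have hPp : IsPGroup r P := R.isPGroup'.map _
    have hQcard : Nat.card Q = r ^ (Nat.card H).factorization r := by
      rw [hQ, Subgroup.card_subtype, R₀.card_eq_multiplicity]
    have hPcard : Nat.card P = r ^ (Nat.card K).factorization r := by
      rw [hP, Subgroup.card_subtype, R.card_eq_multiplicity]
    -- `P ⊓ H = Q`
    have hPH : P ⊓ H = Q := by
      refine (Cfsg.Agent.Lib.Coprime.eq_of_le_of_card_le (le_inf hQR hQH) ?_).symm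
      obtain ⟨j, hj⟩ := IsPGroup.iff_card.mp (hPp.to_le (inf_le_left : P ⊓ H ≤ P))
      rw [hQcard, hj]
      refine Nat.pow_le_pow_right hr.pos
        ((hr.pow_dvd_iff_le_factorization Nat.card_pos.ne').mp (hj ▸ Subgroup.card_dvd_of_le inf_le_right))
    have h := card_le_mul_prod hB T hT P Q hQR hPp hRB hR₀
      (hcopB.coprime_dvd_right (Subgroup.card_dvd_of_le hPK))
    have hprod : ∏ c ∈ T, Q.relIndex (P ⊓ centralizer {c}) ≤ M := by
      calc ∏ c ∈ T, Q.relIndex (P ⊓ centralizer {c}) ≤ ∏ _c ∈ T, (m + 1) := by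
            refine Finset.prod_le_prod' fun c hc => ?_
            have h1 : Q.relIndex (P ⊓ centralizer {c}) = H.relIndex (P ⊓ centralizer {c}) := by
              rw [← hPH, ← inf_relIndex_right (P ⊓ H), ← inf_relIndex_right H]
              congr 1
              rw [inf_comm P H, inf_assoc, ← inf_assoc P, inf_idem]
            rw [h1]
            exact (Subgroup.relIndex_le_of_le_right (inf_le_inf_right _ hPK)
              FiniteIndex.index_ne_zero).trans (hone c hc)
        _ ≤ M := by
            rw [Finset.prod_const]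
            exact Nat.pow_le_pow_right (Nat.succ_pos m) hTcard
    have hcard : Nat.card H * H.relIndex K = Nat.card K := by
      rw [← Subgroup.relIndex_bot_left, ← Subgroup.relIndex_bot_left]
      exact Subgroup.relIndex_mul_relIndex _ _ _ bot_le hHK
    have hf : (Nat.card K).factorization r =
        (Nat.card H).factorization r + (H.relIndex K).factorization r := by
      rw [← hcard, Nat.factorization_mul Nat.card_pos.ne' hidx0, Finsupp.add_apply]
    rw [hPcard, hQcard, hf, pow_add] at h
    have h2 : r ^ (H.relIndex K).factorization r ≤ M :=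
      (Nat.le_of_mul_le_mul_left h (Nat.pow_pos hr.pos)).trans hprod
    exact (hr.pow_dvd_iff_le_factorization (Nat.factorial_pos M).ne').mp
      (Nat.dvd_factorial (Nat.pow_pos hr.pos) h2)
  have h := Nat.le_of_dvd (Nat.factorial_pos M) hdvd
  rwa [hH, inf_relIndex_left] at h

lemma exists_common (hq : q.Prime) (hAc : ∀ a ∈ A, ∀ b ∈ A, a * b = b * a)
    (hA : Nat.card A = q ^ 3) {B B' : Subgroup G} (hB : B ≤ A) (hB' : B' ≤ A)
    (hBc : q ^ 2 ≤ Nat.card B) (hB'c : q ^ 2 ≤ Nat.card B') : ∃ a ∈ B ⊓ B', a ≠ 1 := by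
  by_contra hcon
  push Not at hcon
  have hbot : B ⊓ B' = ⊥ := (Subgroup.eq_bot_iff_forall _).mpr hcon
  have hn : B' ≤ normalizer (B : Set G) := fun x hx => Subgroup.mem_normalizer_iff.mpr fun z => by
    constructor
    · intro hz
      rwa [hAc x (hB' hx) z (hB hz), mul_inv_cancel_right]
    · intro hz
      have h := hAc x (hB' hx) (x * z * x⁻¹) (hB hz)
      have : z = x * z * x⁻¹ := by
        have h2 : x * (x * z * x⁻¹) = x * z := by rw [h]; group
        exact (mul_left_cancel h2).symm
      rwa [this]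
  have h := Cfsg.Agent.Lib.Coprime.card_sup_mul_card_inf hn
  rw [hbot, Subgroup.card_bot, mul_one] at h
  have h2 : Nat.card (B ⊔ B' : Subgroup G) ≤ q ^ 3 := hA ▸ Subgroup.card_le_of_le (sup_le hB hB')
  have h3 : q ^ 2 * q ^ 2 ≤ q ^ 3 := (Nat.mul_le_mul hBc hB'c).trans (h ▸ h2)
  have := hq.two_le
  have h4 : 0 < q ^ 3 := Nat.pow_pos hq.pos
  nlinarith

lemma closure_genSet (hq : q.Prime) (hAc : ∀ a ∈ A, ∀ b ∈ A, a * b = b * a)
    (hAe : ∀ a ∈ A, a ^ q = 1) (hA : Nat.card A = q ^ 3)
    (hAK : A ≤ normalizer (K : Set G)) (hcop : (Nat.card A).Coprime (Nat.card K)) :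
    closure (genSet A K q) = K := by
  refine le_antisymm ((closure_le _).mpr fun y hy => hy.1) ?_
  have : IsMulCommutative A := ⟨⟨fun a b => Subtype.ext (hAc a a.2 b b.2)⟩⟩
  have hAn : ¬ IsCyclic A := not_isCyclic_of_card hq hAe
    (hA ▸ Nat.pow_le_pow_right hq.pos (by norm_num))
  conv_lhs => rw [← Cfsg.Agent.Lib.Coprime.iSup_centralizer_eq hAn hAK hcop]
  refine iSup₂_le fun a ⟨ha, ha1⟩ => ?_
  -- a complement of `a` in `A`
  have hzp : ∀ x ∈ A, Nat.card (zpowers x) ≤ q := fun x hx => by
    rw [Nat.card_zpowers]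
    exact Nat.le_of_dvd hq.pos (orderOf_dvd_of_pow_eq_one (hAe x hx))
  have hzeq : ∀ x ∈ A, x ≠ 1 → Nat.card (zpowers x) = q := fun x hx hx1 => by
    have := Fact.mk hq
    rw [Nat.card_zpowers, orderOf_eq_prime (hAe x hx) hx1]
  have hnorm : ∀ U V : Subgroup G, U ≤ A → V ≤ A → V ≤ normalizer (U : Set G) := by
    intro U V hU hV x hx
    refine Subgroup.mem_normalizer_iff.mpr fun z => ?_
    constructor
    · intro hz
      rwa [hAc x (hV hx) z (hU hz), mul_inv_cancel_right]
    · intro hz
      have h := hAc x (hV hx) (x * z * x⁻¹) (hU hz)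
      have h2 : x * (x * z * x⁻¹) = x * z := by rw [h]; group
      rwa [mul_left_cancel h2] at hz
  have hpair : ∀ x ∈ A, ∀ y ∈ A, Nat.card (zpowers x ⊔ zpowers y : Subgroup G) ≤ q ^ 2 := by
    intro x hx y hy
    have h := Cfsg.Agent.Lib.Coprime.card_sup_mul_card_inf
      (hnorm (zpowers x) (zpowers y) (zpowers_le.mpr hx) (zpowers_le.mpr hy))
    calc Nat.card (zpowers x ⊔ zpowers y : Subgroup G)
        ≤ Nat.card (zpowers x ⊔ zpowers y : Subgroup G) *
          Nat.card (zpowers x ⊓ zpowers y : Subgroup G) := Nat.le_mul_of_pos_right _ Nat.card_pos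
      _ = _ := h
      _ ≤ q * q := Nat.mul_le_mul (hzp x hx) (hzp y hy)
      _ = q ^ 2 := (sq q).symm
  have hlt : q ^ 2 < q ^ 3 := Nat.pow_lt_pow_right hq.one_lt (by norm_num)
  obtain ⟨b, hb, hba⟩ : ∃ b ∈ A, b ∉ zpowers a := by
    by_contra hcon
    push Not at hcon
    have h1 := Subgroup.card_le_of_le (show A ≤ zpowers a from hcon)
    have h2 := hzp a ha
    have h3 : q ≤ q ^ 2 := Nat.le_self_pow (by norm_num) q
    omega
  obtain ⟨d, hd, hdab⟩ : ∃ d ∈ A, d ∉ zpowers a ⊔ zpowers b := by
    by_contra hcon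
    push Not at hcon
    have h1 := Subgroup.card_le_of_le (show A ≤ zpowers a ⊔ zpowers b from hcon)
    have h2 := hpair a ha b hb
    omega
  set A₀ := zpowers b ⊔ zpowers d with hA₀
  have hA₀A : A₀ ≤ A := sup_le (zpowers_le.mpr hb) (zpowers_le.mpr hd)
  have hA₀card : q ^ 2 ≤ Nat.card A₀ := by
    have h := Cfsg.Agent.Lib.Coprime.card_sup_mul_card_inf
      (hnorm (zpowers b) (zpowers d) (zpowers_le.mpr hb) (zpowers_le.mpr hd))
    have hb1 : b ≠ 1 := fun h => hba (h ▸ one_mem _)
    have hd1 : d ≠ 1 := fun h => hdab (h ▸ one_mem _)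
    rw [hzeq b hb hb1, hzeq d hd hd1] at h
    have hbot : zpowers b ⊓ zpowers d = ⊥ := by
      refine (Subgroup.eq_bot_iff_forall _).mpr fun x hx => ?_
      by_contra hx1
      have e : zpowers x = zpowers d := Cfsg.Agent.Lib.Coprime.eq_of_le_of_card_le
        (zpowers_le.mpr hx.2) (by rw [hzeq x (zpowers_le.mpr hd hx.2) hx1, hzeq d hd hd1])
      have : d ∈ zpowers b := by
        have h' : zpowers d ≤ zpowers b := e ▸ zpowers_le.mpr hx.1
        exact h' (mem_zpowers d)
      exact hdab (mem_sup_right this)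
    rw [hbot, Subgroup.card_bot, mul_one] at h
    rw [hA₀, h, sq]
  have ha₀ : a ∉ A₀ := by
    intro haA
    have hsub : zpowers a ⊔ zpowers b ⊔ zpowers d ≤ A₀ :=
      sup_le (sup_le (zpowers_le.mpr haA) le_sup_left) le_sup_right
    have hAle : A₀ = zpowers b ⊔ zpowers d := hA₀
    have h2 : Nat.card (zpowers a ⊔ zpowers b ⊔ zpowers d : Subgroup G) ≤ q ^ 2 :=
      (Subgroup.card_le_of_le hsub).trans (hpair b hb d hd)
    have h3 := Cfsg.Agent.Lib.Coprime.card_sup_mul_card_inf
      (hnorm (zpowers a ⊔ zpowers b) (zpowers d)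
        (sup_le (zpowers_le.mpr ha) (zpowers_le.mpr hb)) (zpowers_le.mpr hd))
    have hab : q ^ 2 ≤ Nat.card (zpowers a ⊔ zpowers b : Subgroup G) := by
      have h := Cfsg.Agent.Lib.Coprime.card_sup_mul_card_inf
        (hnorm (zpowers a) (zpowers b) (zpowers_le.mpr ha) (zpowers_le.mpr hb))
      have hb1 : b ≠ 1 := fun h => hba (h ▸ one_mem _)
      have hbot : zpowers a ⊓ zpowers b = ⊥ := by
        refine (Subgroup.eq_bot_iff_forall _).mpr fun x hx => ?_
        by_contra hx1
        have e : zpowers x = zpowers b := Cfsg.Agent.Lib.Coprime.eq_of_le_of_card_le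
          (zpowers_le.mpr hx.2) (by rw [hzeq x (zpowers_le.mpr hb hx.2) hx1, hzeq b hb hb1])
        exact hba ((e ▸ zpowers_le.mpr hx.1 : zpowers b ≤ zpowers a) (mem_zpowers b))
      rw [hbot, Subgroup.card_bot, mul_one, hzeq a ha ha1, hzeq b hb hb1] at h
      rw [h, sq]
    have hd1 : d ≠ 1 := fun h => hdab (h ▸ one_mem _)
    have hbot : (zpowers a ⊔ zpowers b) ⊓ zpowers d = ⊥ := by
      refine (Subgroup.eq_bot_iff_forall _).mpr fun x hx => ?_
      by_contra hx1
      have e : zpowers x = zpowers d := Cfsg.Agent.Lib.Coprime.eq_of_le_of_card_le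
        (zpowers_le.mpr hx.2) (by rw [hzeq x (zpowers_le.mpr hd hx.2) hx1, hzeq d hd hd1])
      exact hdab ((e ▸ zpowers_le.mpr hx.1 : zpowers d ≤ zpowers a ⊔ zpowers b) (mem_zpowers d))
    rw [hbot, Subgroup.card_bot, mul_one, hzeq d hd hd1] at h3
    have := hq.two_le
    have h4 : q ^ 2 * q ≤ q ^ 2 := le_trans (Nat.mul_le_mul_right q hab) (h3 ▸ h2)
    have h5 : 0 < q ^ 2 := Nat.pow_pos hq.pos
    nlinarith
  have : IsMulCommutative A₀ := ⟨⟨fun x y => Subtype.ext (hAc x (hA₀A x.2) y (hA₀A y.2))⟩⟩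
  have hA₀n : ¬ IsCyclic A₀ := not_isCyclic_of_card hq (fun x hx => hAe x (hA₀A hx)) hA₀card
  have hinv : A₀ ≤ normalizer ((K ⊓ centralizer ({a} : Set G) : Subgroup G) : Set G) := by
    intro x hx
    exact Subgroup.inf_normalizer_le_normalizer_inf ⟨hAK (hA₀A hx),
      Subgroup.le_normalizer (mem_centralizer_singleton_iff.mpr (hAc x (hA₀A hx) a ha))⟩
  conv_lhs => rw [← Cfsg.Agent.Lib.Coprime.iSup_centralizer_eq hA₀n hinv
    ((hcop.coprime_dvd_left (Subgroup.card_dvd_of_le hA₀A)).coprime_dvd_right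
      (Subgroup.card_dvd_of_le inf_le_left))]
  refine iSup₂_le fun e ⟨he, he1⟩ => ?_
  intro y hy
  refine subset_closure ⟨hy.1.1, zpowers a ⊔ zpowers e,
    sup_le (zpowers_le.mpr ha) (zpowers_le.mpr (hA₀A he)), ?_, ?_⟩
  · have h := Cfsg.Agent.Lib.Coprime.card_sup_mul_card_inf
      (hnorm (zpowers a) (zpowers e) (zpowers_le.mpr ha) (zpowers_le.mpr (hA₀A he)))
    have hbot : zpowers a ⊓ zpowers e = ⊥ := by
      refine (Subgroup.eq_bot_iff_forall _).mpr fun x hx => ?_
      by_contra hx1
      have e' : zpowers x = zpowers a := Cfsg.Agent.Lib.Coprime.eq_of_le_of_card_le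
        (zpowers_le.mpr hx.1) (by rw [hzeq x (zpowers_le.mpr ha hx.1) hx1, hzeq a ha ha1])
      exact ha₀ ((e' ▸ ((zpowers_le.mpr hx.2).trans (zpowers_le.mpr he)) : zpowers a ≤ A₀)
        (mem_zpowers a))
    rw [hbot, Subgroup.card_bot, mul_one, hzeq a ha ha1, hzeq e (hA₀A he) he1] at h
    rw [h, sq]
  · intro x hx
    have hle : zpowers a ⊔ zpowers e ≤ centralizer ({y} : Set G) :=
      sup_le (zpowers_le.mpr (mem_centralizer_pair.mp hy.1.2))
        (zpowers_le.mpr (mem_centralizer_pair.mp hy.2))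
    exact mem_centralizer_singleton_iff.mp (hle hx)

theorem main (hq : q.Prime) (hAc : ∀ a ∈ A, ∀ b ∈ A, a * b = b * a)
    (hAe : ∀ a ∈ A, a ^ q = 1) (hA : Nat.card A = q ^ 3)
    (hAK : A ≤ normalizer (K : Set G)) (hcop : (Nat.card A).Coprime (Nat.card K))
    (hm : ∀ a ∈ A, a ≠ 1 → Nat.card (⁅K ⊓ centralizer {a}, K ⊓ centralizer {a}⁆ : Subgroup G) ≤ m) :
    Nat.card (commutator K) ≤ finalBound q m := by
  set S : Set K := {y | (y : G) ∈ genSet A K q} with hS
  have hgen : closure S = ⊤ := by
    apply map_injective K.subtype_injective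
    rw [MonoidHom.map_closure, ← MonoidHom.range_eq_map, Subgroup.range_subtype]
    have : (K.subtype '' S) = genSet A K q := by
      ext y
      constructor
      · rintro ⟨y, hy, rfl⟩; exact hy
      · exact fun hy => ⟨⟨y, hy.1⟩, hy, rfl⟩
    rw [this]
    exact closure_genSet hq hAc hAe hA hAK hcop
  have hD : ∀ s ∈ S, ∀ t ∈ S, ∃ a ∈ A, a ≠ 1 ∧
      ((⁅s, t⁆ : K) : G) ∈ (⁅K ⊓ centralizer {a}, K ⊓ centralizer {a}⁆ : Subgroup G) := by
    intro s hs t ht
    obtain ⟨-, B, hB, hBc, hBs⟩ := hs
    obtain ⟨-, B', hB', hB'c, hB't⟩ := ht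
    obtain ⟨a, ha, ha1⟩ := exists_common hq hAc hA hB hB' hBc hB'c
    refine ⟨a, hB ha.1, ha1, ?_⟩
    exact commutator_mem_commutator
      (show (s : G) ∈ K ⊓ centralizer {a} from
        ⟨s.2, mem_centralizer_singleton_iff.mpr (hBs a ha.1).symm⟩)
      (show (t : G) ∈ K ⊓ centralizer {a} from
        ⟨t.2, mem_centralizer_singleton_iff.mpr (hB't a ha.2).symm⟩)
  refine card_commutator_le S hgen (Nat.factorial_pos m) ?_ ?_ ?_
  · let T : Finset G := (Set.toFinite {a : G | a ∈ A ∧ a ≠ 1}).toFinset
    have hT : T.card ≤ q ^ 3 := by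
      rw [← hA, ← Set.ncard_eq_toFinset_card _ (Set.toFinite _), ← SetLike.coe_sort_coe,
        Nat.card_coe_set_eq]
      exact Set.ncard_le_ncard (fun c hc => hc.1) (Set.toFinite _)
    let D : G → Set G := fun a =>
      ((⁅K ⊓ centralizer {a}, K ⊓ centralizer {a}⁆ : Subgroup G) : Set G)
    have h1 : (Subtype.val '' {z : K | ∃ s ∈ S, ∃ t ∈ S, ⁅s, t⁆ = z}).ncard ≤ q ^ 3 * m := by
      refine (Set.ncard_le_ncard (t := ⋃ a ∈ T, D a) ?_ (Set.toFinite _)).trans ?_
      · rintro _ ⟨z, ⟨s, hs, t, ht, rfl⟩, rfl⟩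
        obtain ⟨a, ha, ha1, hmem⟩ := hD s hs t ht
        exact Set.mem_iUnion₂.mpr ⟨a, by simp [T, ha, ha1], hmem⟩
      · refine (Finset.set_ncard_biUnion_le _ _).trans ?_
        refine (Finset.sum_le_card_nsmul _ _ m fun a ha => ?_).trans ?_
        · simp only [T, Set.Finite.mem_toFinset] at ha
          show (D a).ncard ≤ m
          rw [← Nat.card_coe_set_eq]
          exact hm a ha.1 ha.2
        · rw [smul_eq_mul]; exact Nat.mul_le_mul_right _ hT
    rwa [Set.ncard_image_of_injective _ Subtype.val_injective] at h1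
  · intro s hs
    have h : centralizer ({s} : Set K) = (centralizer {(s : G)}).subgroupOf K := by
      ext x
      rw [mem_subgroupOf, mem_centralizer_singleton_iff, mem_centralizer_singleton_iff]
      exact ⟨fun h => by simpa using congrArg Subtype.val h, fun h => Subtype.ext (by simpa using h)⟩
    rw [h]
    exact index_centralizer_le hq hAc hAe hA hAK hcop hm hs
  · intro s hs t ht
    obtain ⟨a, ha, ha1, hmem⟩ := hD s hs t ht
    apply Subtype.ext
    rw [Subgroup.coe_pow, Subgroup.coe_one, ← orderOf_dvd_iff_pow_eq_one]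
    refine (Subgroup.orderOf_dvd_natCard _ hmem).trans ?_
    exact Nat.dvd_factorial Nat.card_pos (hm a ha ha1)

end Cfsg.CoprimeDerived
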